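import Cfsg.Agent.CTwoTab.BInst
import Cfsg.Agent.BabyComp.BaseTwo
import Cfsg.Agent.H935.RuM.Mon
import Cfsg.Agent.H738.SK.Transport

/-!
# S3010, the row of the Baby Monster: the context (helper877)

`Ctx q t M₁ a b` : `q : 2.B → B`, `t` a transposition of `B`, `M₁ ≤ C(t)` of index 2, `a`, `b` involutions of `2.B` (over the
classes `2B`, `2D`); `exists_ctx`.
-/

set_option autoImplicit false
set_option maxRecDepth 100000
set_option linter.constructorNameAsVariable false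
set_option linter.style.haveILetI false

open Subgroup

namespace Cfsg.Agent.H877.SK.B

open Cfsg Cfsg.Lie Cfsg.Agent.Bimonster Cfsg.Agent.BabyU Cfsg.Agent.TwoESix.Cover
open Cfsg.Agent.MonsterX Cfsg.Agent.MonsterX.KSide Cfsg.Agent.MonsterX.KLift Cfsg.Agent.MonsterX.KModel
open Cfsg.Agent.MonsterX.Model Cfsg.Agent.MonsterX.MainPack Cfsg.Agent.MonsterX.MainSimple
open Cfsg.Agent.MonsterX.MainBasic Cfsg.Agent.MonsterU Cfsg.Agent.MonsterU.Assembly Cfsg.Agent.MonsterN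
open Cfsg.Agent.MonsterN.Lit
open Cfsg.Agent.MonsterN.LitInst Cfsg.Agent.MonsterU.Lam2 Cfsg.Agent.MonsterU.TwoCls
open Cfsg.Agent.BabyComp Cfsg.Agent.BabyComp.Main Cfsg.Agent.BabyComp.BaseTwo Cfsg.Agent.R01.Lifts
open Cfsg.Agent.MonsterP Cfsg.Agent.MonsterP.NodeData Cfsg.Agent.MonsterP.NodesConj Cfsg.Agent.CTwoTab.BInst

/-- the Monster -/
noncomputable abbrev MG : Type := ↥InstData.M.G
/-- the double cover -/
noncomputable abbrev BB' : Subgroup MG := BB KDone.K KLinkInst.x₀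
/-- the central involution -/
noncomputable abbrev τ : ↥BB' := tb KDone.K KLinkInst.x₀
/-- the Baby Monster -/
abbrev X : Type := Spor.BabyMonster
/-- the node `t1` -/
abbrev t1 : X := PresentedGroup.of Spor.BabyMonster.Gen.t1
/-- the involution `z` of the Monster -/
noncomputable abbrev zz : MG := KDone.K.z

/-- the context -/
structure Ctx (q : ↥BB' →* X) (t : X) (M₁ : Subgroup X) (a b : ↥BB') : Prop where
  hq : Ext q τ
  ht : IsConj t1 t
  sq : t * t = 1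
  ne : t ≠ 1
  base : Base2 t M₁
  mem : t ∈ M₁
  lift : ∀ k : ↥BB', q k ∈ M₁ → q k * q k = 1 → k * k = 1
  perf : ∀ P : Subgroup X, P ≤ centralizer ({t} : Set X) → ⁅P, P⁆ = P → P ≤ M₁
  /-- the classes of involutions of `2.B` -/
  cls : ∀ u : ↥BB', u * u = 1 → u ≠ 1 → u ≠ τ → IsConj t (q u) ∨ IsConj a u ∨ IsConj (τ * a) u ∨ IsConj b u
  aa : a * a = 1
  bb : b * b = 1
  a1 : q a ≠ 1
  a2 : IsConj (τ : MG) (a : MG)
  za : IsConj zz ((τ * a : ↥BB') : MG)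
  zb : IsConj zz (b : MG)
  zt : ¬ IsConj zz (τ : MG)
  z1 : zz ≠ 1

variable {V P W : Type} [AddCommGroup V] [Module ℚ V] [Group P] [AddCommGroup W] [Module ℚ W]
  {D : MData V} {M : KS ↥D.G V P W} {x₀ : P} {θ : leechLattice → P} {K₀ : Type} [Group K₀]

/-- the fusion facts with the class of `f₁ f₂` -/
theorem exists_facts (A : All D K₀) (H : Link D M x₀) (L : Lift M θ) {τ : D.G} {y : P}
    (T : Cfsg.Agent.MonsterU.InvTwo.TauHyp M θ ⊤ τ y) {t : P} (ht : t ∈ M.Sh) :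
    ∃ f₁ f₂ f₃ f₄ : BB M t, FusionType.Facts (tb M t) f₁ f₂ f₃ f₄ ∧
      (∀ h, IsConj (tb M t * (f₁ * f₂)) (⟨M.z, h⟩ : BB M t)) ∧
      IsConj M.z ((f₁ * f₂ * f₃ : BB M t) : D.G) ∧ IsConj (M.ι t) ((f₁ * f₂ : BB M t) : D.G) ∧
      ∃ p : P, ((f₁ : BB M t) : D.G) = M.ι p ∧ IsType 2 (clP L p) ∧ IsType 2 (clP L t + clP L p) := by
  have F := FusInst.hyp A H L T ht
  obtain ⟨p₁, p₂, p₃, p₄, C⟩ := FusF2.exists_conf L ht
  refine ⟨_, _, _, _, F.facts C (F.c₁ C) (F.c₂ C) (F.c₃ C) (F.c₄ C), fun h => F.conj_z C _ _, ?_, ?_,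
    p₁, rfl, C.s₁, C.t₁⟩
  · obtain ⟨g, hg⟩ := F.four_z (q := p₁ * p₂ * p₃) (by rw [clP_mul, clP_mul]; exact C.s123)
    have h1 : IsConj (M.ι (p₁ * p₂ * p₃)) M.z := isConj_iff.2 ⟨g, hg⟩
    have e : ((FusF2.elt M p₁ (F.c₁ C) * FusF2.elt M p₂ (F.c₂ C) * FusF2.elt M p₃ (F.c₃ C) :
        FusF2.B M t) : D.G) = M.ι (p₁ * p₂ * p₃) := by
      rw [map_mul, map_mul]
      rfl
    rw [e]
    exact h1.symm
  · have e : ((FusF2.elt M p₁ (F.c₁ C) * FusF2.elt M p₂ (F.c₂ C) : FusF2.B M t) : D.G) = M.ι (p₁ * p₂) := by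
      rw [map_mul]
      rfl
    rw [e]
    exact F.conj_short (by rw [clP_mul]; exact C.s12)

/-- **All the objects.** -/
theorem elim {C : Prop} (A : All D K₀) (H : Link D M x₀) (L : Lift M θ) {τ : D.G} {y' : P}
    (T : Cfsg.Agent.MonsterU.InvTwo.TauHyp M θ ⊤ τ y') {y : ℕ → D.G} (hP : PRel y) (hne : y 0 ≠ y 1)
    (hy : ∃ g : D.G, g * tG A.hG A.hR * g⁻¹ = y 10)
    (k : ∀ (K : Type) [Field K] [Fintype K], Fintype.card K = 4 → Fintype.card K = 2 ^ 2 →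
      ∀ [IsSimpleGroup (twistedE6 K 2)] [Finite (twistedE6 K 2)] [Finite D.G] [Finite Spor.BabyMonster]
      (q : BB M x₀ →* Spor.BabyMonster) (y : ℕ → BB M x₀) (h : Pre y) (π : KK y →* twistedE6 K 2)
      (f₁ f₂ f₃ f₄ : BB M x₀),
      Ext q (tb M x₀) → y 10 = tb M x₀ → KD h (rootClass K) π →
      FusionType.Facts (tb M x₀) f₁ f₂ f₃ f₄ →
      IsConj M.z ((BB M x₀).subtype (tb M x₀ * (f₁ * f₂))) → IsConj M.z ((BB M x₀).subtype (f₁ * f₂ * f₃)) →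
      IsConj (M.ι x₀) ((BB M x₀).subtype (f₁ * f₂)) →
      IsConj f₁ (y 5) → KEq.Big (BB M x₀) (tb M x₀) (y 5) →
      IsConj (q (y 5)) (PresentedGroup.of Spor.BabyMonster.Gen.t1 : Spor.BabyMonster) →
      (¬ ∃ g, g * M.ι x₀ * g⁻¹ = M.z) → C) : C := by
  have hfin : Finite D.G := G_finite A.hO
  have hB : Cfsg.IsB Cfsg.Spor.BabyMonster := Cfsg.Agent.S1704.result
  obtain ⟨⟨h1, h2, h3⟩, h43⟩ := ModelB.fieldsKS A H L hP hne hy hB H.x₀_mem
  obtain ⟨f₁, f₂, f₃, f₄, Fc, hcz, hcd, hct, p, hp, hp2, hp2'⟩ := exists_facts A H L T H.x₀_mem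
  have hzm : M.z ∈ BB M x₀ := mem_centralizer_singleton_iff.2 (by
    show M.ι M.zc * M.ι x₀ = M.ι x₀ * M.ι M.zc
    rw [← map_mul, ← map_mul, M.zc_comm])
  have hE : Emb (BB M x₀).subtype M.z (tb M x₀) f₁ f₂ f₃ :=
    ⟨Subtype.val_injective, nineteen H A, ((BB M x₀).subtype.map_isConj (hcz hzm)).symm, hcd⟩
  -- the group `²E₆(2)`
  let K := GaloisField 2 2
  let _i : Fintype K := Fintype.ofFinite K
  have hK : Fintype.card K = 4 := by
    rw [← Nat.card_eq_fintype_card]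
    exact GaloisField.card 2 2 (by norm_num)
  have hF : Fintype.card K = 2 ^ 2 := by rw [hK]; norm_num
  have hsE := EInst.isSimple K hK
  obtain ⟨e0, r, he0, hgen, hr, -, hconj⟩ := TwoESix.GoodInst.exists_good K hK
  have hR : ∀ i, e0 i ∈ rootClass K := fun i => by
    obtain ⟨g, hg⟩ := hconj i
    exact ⟨g, r, hr, hg⟩
  have hHB : Finite HB := Cfsg.Agent.BM.HBFinal.finite_HB
  have hcard := Cfsg.Agent.BM.HBFinal.hcard K hK
  have big_a : KEq.Big (BB M x₀) (tb M x₀) f₁ := by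
    have hm : M.ι p ∈ BB M x₀ := by rw [← hp]; exact f₁.2
    have e : f₁ = ⟨M.ι p, hm⟩ := Subtype.ext hp
    rw [e]
    exact BigAConf.big_a L T H.x₀_mem h43 hp2 hp2'
  obtain ⟨q, yB, hpre, π, hq, h10, DK, hc5, hq5⟩ :=
    NodesB.nodes he0 hgen hcard (Cfsg.Agent.BM.HBFinal.card_E K hK) hR h1 h2 h3 Fc hE
  have hfX : Finite Spor.BabyMonster := Finite.of_surjective q hq.surj
  have big : KEq.Big (BB M x₀) (tb M x₀) (yB 5) := big_a.conj (fun x => (Fc.cen x).symm) hc5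
  exact k K hK hF q yB hpre π f₁ f₂ f₃ f₄ hq h10 DK Fc hE.conj_z hE.conj_d hct hc5 big hq5
    (FusInst.hyp A H L T H.x₀_mem).hne

/-- **The context.** -/
theorem exists_ctx : ∃ (q : ↥BB' →* X) (t : X) (M₁ : Subgroup X) (a b : ↥BB'), Ctx q t M₁ a b := by
  refine elim all KDone.lnk KDone.lft
    (TauInst.tauHyp (Final.cent InstanceFinal.mOrbit Instance.mTrans)) (NodesGrp.prel CTwoTab.BInst.H) (NodesNe.ne CTwoTab.BInst.H)
    conj_ten ?_
  intro K _ _ hK hF _ _ _ _ q y h π f₁ f₂ f₃ f₄ hq h10 DK Fc hcz hcd hct hc5 big hq5 hnz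
  obtain ⟨M₁, B2⟩ := BaseTwo.exists_base2 hq5
  obtain ⟨σ, hσ⟩ := Main.exists_sigma hq h10 DK
  have S := Main.data hq h10 DK big hσ
  have hM := BaseTwo.Base.eq_map hq h10 big B2.toBase
  have h12 : f₁ * f₂ * (f₁ * f₂) = 1 := by
    calc f₁ * f₂ * (f₁ * f₂) = f₁ * (f₂ * f₁) * f₂ := by group
      _ = (f₁ * f₁) * (f₂ * f₂) := by rw [← Fc.c12]; group
      _ = 1 := by rw [Fc.sq₁, Fc.sq₂, one_mul]
  have h123 : f₁ * f₂ * f₃ * (f₁ * f₂ * f₃) = 1 := by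
    calc f₁ * f₂ * f₃ * (f₁ * f₂ * f₃) = f₁ * f₂ * (f₃ * f₁) * f₂ * f₃ := by group
      _ = f₁ * f₂ * f₁ * (f₃ * f₂) * f₃ := by rw [← Fc.c13]; group
      _ = f₁ * f₂ * (f₁ * f₂) * (f₃ * f₃) := by rw [← Fc.c23]; group
      _ = 1 := by rw [h12, Fc.sq₃, one_mul]
  have ha1 : q (f₁ * f₂) ≠ 1 := by
    intro h1
    rcases (hq.ker _).1 h1 with h2 | h2
    · exact Fc.ne₂ h2
    · exact Fc.ne₁ h2
  refine ⟨q, q (y 5), M₁, f₁ * f₂, f₁ * f₂ * f₃, hq, hq5.symm, S.t_sq, S.t_ne, B2, hM ▸ S.mem, ?_, ?_, ?_, h12, h123,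
    ha1, hct, hcz, hcd, ?_, ?_⟩
  · intro k hk hkk
    rw [hM] at hk
    obtain ⟨m, hm, hmk⟩ := hk
    have hmm : m * m = 1 := by
      refine lift_sq (Cfsg.Agent.TwoESix.LeviG.rootFacts hK hF) (KeyInst.extra hF)
        (Cfsg.Agent.TwoESix.RootsInst.roots K hF) hq h10 DK hm ?_
      rw [hmk]; exact hkk
    rcases hq.map_eq.1 hmk with h1 | h1
    · rw [← h1]; exact hmm
    · have h2 : k = m * τ := by rw [h1, mul_assoc, hq.zz, mul_one]
      rw [h2]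
      calc m * τ * (m * τ) = m * (τ * m) * τ := by group
        _ = m * m * (τ * τ) := by rw [← hq.comm m]; group
        _ = 1 := by rw [hmm, hq.zz, one_mul]
  · intro P hP hp
    rw [hM]
    exact S.perf P hP hp
  · intro u huu hu1 huτ
    rcases Fc.classes u huu hu1 huτ with h1 | h1 | h1 | h1
    · exact Or.inl (q.map_isConj (hc5.symm.trans h1))
    · exact Or.inr (Or.inl h1)
    · exact Or.inr (Or.inr (Or.inl h1))
    · exact Or.inr (Or.inr (Or.inr h1))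
  · intro h1
    obtain ⟨c, hc⟩ := isConj_iff.1 h1.symm
    exact hnz ⟨c, hc⟩
  · intro h1
    have h2 : (τ * (f₁ * f₂) : ↥BB') = 1 := by
      apply Subtype.ext
      obtain ⟨c, hc⟩ := isConj_iff.1 hcz
      rw [show KDone.K.z = 1 from h1, mul_one, mul_inv_cancel] at hc
      exact hc.symm
    apply ha1
    have h3 := congrArg q h2
    rwa [map_mul, hq.mapz, one_mul, map_one] at h3

end Cfsg.Agent.H877.SK.B
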