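import Cfsg.Agent.H877.SK.B.D
import Cfsg.Agent.H877.SK.B.Sch
import Cfsg.Agent.H132.Crit

/-!
# S3010, the row of the Baby Monster: the class `2A` (helper877)

`dead_A` : `t` inverts `s t` of order 3 and `O_2(C(t) ∩ C(s)) = 1`.
-/

set_option autoImplicit false
set_option maxRecDepth 100000

open Subgroup

namespace Cfsg.Agent.H877.SK.B

open Cfsg Cfsg.Agent.H282.SK Cfsg.Agent.R01.Lifts Cfsg.Agent.H738.SK

variable {q : ↥BB' →* X} {t : X} {M₁ : Subgroup X} {a b : ↥BB'} {s : X} {J : Subgroup X}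

section gen

variable {G : Type*} [Group G] [Finite G]

/-- `|R| |J|` divides `|D|` for a normal subgroup `R` of `D` with `R ∩ J = 1` -/
theorem card_mul_dvd {R J : Subgroup G} [R.Normal] (h : R ⊓ J = ⊥) : Nat.card ↥R * Nat.card ↥J ∣ Nat.card G := by
  rw [← R.card_mul_index]
  refine Nat.mul_dvd_mul_left _ ?_
  have h1 : R.relIndex J ∣ R.index := relIndex_dvd_index_of_normal R J
  rw [← inf_relIndex_right, h, relIndex_bot_left] at h1
  exact h1

/-- The 2-core of a group with an element `y` of order 13 acting on it without fixed points and a simple subgroup `J`. -/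
theorem pCore_bot {y : G} (hy : orderOf y = 13) (hfix : ∀ w : G, w * w = 1 → w ≠ 1 → ¬ Commute w y) {J : Subgroup G}
    (hJ : IsSimpleGroup ↥J) {m : ℕ} (hm : 2 ^ m ∣ Nat.card ↥J) (h3 : 3 ∣ Nat.card ↥J) {k : ℕ} (hk : k ≤ 12 + m)
    (hG : ¬ 2 ^ k ∣ Nat.card G) : pCore 2 G = ⊥ := by
  have hN : (pCore 2 G).Normal := Lib.Cores.pCore_normal 2
  have hp : IsPGroup 2 ↥(pCore 2 G) := Lib.Cores.pCore_isPGroup 2
  have : Fact (Nat.Prime 2) := ⟨Nat.prime_two⟩
  obtain ⟨n, hn⟩ := IsPGroup.iff_card.1 hp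
  have h1 := H132.card_modEq (by norm_num : Nat.Prime 13) hy (pCore 2 G) (by
    rw [normalizer_eq_top_iff.2 hN]; exact mem_top y)
  have h2 : pCore 2 G ⊓ centralizer ({y} : Set G) = ⊥ := by
    by_contra hne
    obtain ⟨k, hk⟩ := IsPGroup.iff_card.1 (hp.to_le (inf_le_left (b := centralizer ({y} : Set G))))
    have hk0 : k ≠ 0 := by
      rintro rfl
      rw [pow_zero] at hk
      exact hne (eq_bot_of_card_eq _ hk)
    obtain ⟨w, hw⟩ := exists_prime_orderOf_dvd_card' (G := ↥(pCore 2 G ⊓ centralizer ({y} : Set G) : Subgroup G)) 2 (by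
      rw [hk]; exact dvd_pow_self 2 hk0)
    have hwo : orderOf (w : G) = 2 := by rw [Subgroup.orderOf_coe, hw]
    refine hfix (w : G) ?_ ?_ (mem_centralizer_singleton_iff.1 (mem_inf.1 w.2).2)
    · have h := pow_orderOf_eq_one (w : G)
      rwa [hwo, pow_two] at h
    · intro h
      rw [h, orderOf_one] at hwo
      omega
  rw [h2, card_bot, hn] at h1
  -- `12 ∣ n`
  have h12 : 12 ∣ n := by
    have h4 : 2 ^ n % 13 = 1 := h1
    have h5 : 2 ^ n % 13 = 2 ^ (n % 12) % 13 := by
      conv_lhs => rw [← Nat.div_add_mod n 12, pow_add, pow_mul]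
      rw [Nat.mul_mod, Nat.pow_mod]
      norm_num
    rw [h5] at h4
    have h6 : n % 12 < 12 := Nat.mod_lt _ (by norm_num)
    have h7 : n % 12 = 0 := by
      interval_cases h8 : n % 12 <;> first | rfl | (norm_num at h4)
    omega
  -- `R ∩ J = 1`
  have h4 : pCore 2 G ⊓ J = ⊥ := by
    have h5 := hJ.eq_bot_or_eq_top_of_normal ((pCore 2 G).subgroupOf J) inferInstance
    rcases h5 with h5 | h5
    · rw [subgroupOf_eq_bot] at h5
      exact h5.eq_bot
    · exfalso
      rw [subgroupOf_eq_top] at h5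
      obtain ⟨k, hk⟩ := IsPGroup.iff_card.1 (hp.to_le h5)
      rw [hk] at h3
      have := Nat.Prime.dvd_of_dvd_pow (by norm_num) h3
      omega
  have h5 := card_mul_dvd h4
  rw [hn] at h5
  have h6 : 2 ^ (n + m) ∣ Nat.card G := by
    rw [pow_add]
    exact (Nat.mul_dvd_mul_left _ hm).trans h5
  have h7 : n + m < k := by
    by_contra hlt
    push Not at hlt
    exact hG ((pow_dvd_pow 2 hlt).trans h6)
  have h8 : n = 0 := by omega
  rw [h8, pow_zero] at hn
  exact eq_bot_of_card_eq _ hn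

end gen

/-- **The class `2A` is dead.** -/
theorem dead_A (C : Ctx q t M₁ a b) : Dead (⊤ : Subgroup X) t := by
  obtain ⟨s, J, F⟩ := exists_conf
  obtain ⟨y, hyJ, u, huJ, hy, huu, hi⟩ := F.exists_inv C
  have htt := F.tt
  have hti : (t1 : X)⁻¹ = t1 := inv_eq_of_mul_eq_one_left htt
  have hsi : s⁻¹ = s := inv_eq_of_mul_eq_one_left F.ss
  have hinv : t1 * (s * t1) * t1⁻¹ = (s * t1)⁻¹ := by
    rw [mul_inv_rev, hti, hsi]
    calc t1 * (s * t1) * t1 = t1 * s * (t1 * t1) := by group
      _ = t1 * s := by rw [htt, mul_one]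
  have ht1 : (t1 : X) ≠ 1 := by
    intro h
    have h1 := F.ord
    rw [h, mul_one] at h1
    have h2 : s ^ 2 = 1 := by rw [pow_two, F.ss]
    have h3 := orderOf_dvd_of_pow_eq_one h2
    rw [h1] at h3
    omega
  refine Dead.of_isConj (t := t1) ?_ C.ht
  refine Dead.of_O2 ht1 (by rw [F.ord]; decide) hinv ?_
  have hD : centralizer ({(t1 : X)} : Set X) ⊓ centralizer ({s * t1} : Set X) =
      centralizer ({(t1 : X)} : Set X) ⊓ centralizer ({s} : Set X) := by
    ext g
    simp only [mem_inf, mem_centralizer_singleton_iff]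
    constructor
    · rintro ⟨h1, h2⟩
      refine ⟨h1, ?_⟩
      have h3 : Commute g (s * t1 * t1⁻¹) := (show Commute g (s * t1) from h2).mul_right
        (show Commute g t1 from h1).inv_right
      rwa [mul_inv_cancel_right] at h3
    · rintro ⟨h1, h2⟩
      exact ⟨h1, ((show Commute g s from h2).mul_right (show Commute g t1 from h1)).eq⟩
  have hJ : J ≤ centralizer ({(t1 : X)} : Set X) ⊓ centralizer ({s * t1} : Set X) := by
    rw [hD]
    exact le_inf F.le_t F.le_s
  have hst : (t1 : X) * s ≠ s * t1 := by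
    intro h
    have h1 : (s * t1) ^ 2 = 1 := by
      rw [pow_two]
      nth_rewrite 1 [← h]
      calc (t1 : X) * s * (s * t1) = t1 * (s * s) * t1 := by group
        _ = 1 := by rw [F.ss, mul_one, htt]
    have h2 := orderOf_dvd_of_pow_eq_one h1
    rw [F.ord] at h2
    omega
  set D := centralizer ({(t1 : X)} : Set X) ⊓ centralizer ({s * t1} : Set X) with hDdef
  have hJc : Nat.card ↥(J.subgroupOf D) = 4585351680 := by
    rw [Nat.card_congr (subgroupOfEquivOfLe hJ).toEquiv, F.card]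
  have hcard : ¬ 2 ^ 19 ∣ Nat.card ↥D := by
    rw [hD]
    refine Sch.not_dvd (IsConj.refl _) F.hs hst ?_
    rw [← hD]
    refine dvd_trans ?_ (card_dvd_of_le hJ)
    rw [F.card]; norm_num
  have hb : pCore 2 ↥D = ⊥ := by
    refine pCore_bot (y := (⟨y, hJ hyJ⟩ : ↥D)) (by rw [Subgroup.orderOf_mk]; exact hy) ?_ (J := J.subgroupOf D) ?_
      (m := 9) (by rw [hJc]; norm_num) (by rw [hJc]; norm_num) (k := 19) (by norm_num) hcard
    · intro w hw hw1 hwy
      refine no_inv C F.ord hy (F.comm hyJ).symm (w := (w : X)) (congrArg Subtype.val hw)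
        (fun h => hw1 (Subtype.ext h)) ?_ (congrArg Subtype.val hwy)
      exact mem_centralizer_singleton_iff.1 (mem_inf.1 w.2).2
    · have := F.simple
      exact (subgroupOfEquivOfLe hJ).isSimpleGroup
  rw [O2, hb, Subgroup.map_bot]

end Cfsg.Agent.H877.SK.B
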