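import Cfsg.Agent.H877.SK.B.Fi

/-!
# S3010, the row of the Baby Monster: the class `2D` (helper877)

`dead_D` : `v = t u` inverts `s t y` of order 39, whose centralizer has odd order; `v` is of type `2D` by the
6-transposition property of the Monster.
-/

set_option autoImplicit false
set_option maxRecDepth 100000

open Subgroup
open scoped commutatorElement

namespace Cfsg.Agent.H877.SK.B

open Cfsg Cfsg.Agent.H282.SK Cfsg.Agent.R01.Lifts Cfsg.Agent.H738.SK

variable {q : ↥BB' →* X} {t : X} {M₁ : Subgroup X} {a b : ↥BB'} {s : X} {J : Subgroup X}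

theorem orderOf_conj {G : Type*} [Group G] (g x : G) : orderOf (g * x * g⁻¹) = orderOf x := by
  have := orderOf_injective (MulAut.conj g).toMonoidHom (MulAut.conj g).injective x
  simpa using this

/-- a transposition inverts no element of odd order `> 4` -/
theorem not_conj_t (C : Ctx q t M₁ a b) {v x : X} (hv : IsConj t v) (hx : Odd (orderOf x)) (h4 : 4 < orderOf x)
    (hi : v * x * v⁻¹ = x⁻¹) : False := by
  obtain ⟨g, hg⟩ := isConj_iff.1 hv
  have hvv : v * v = 1 := by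
    rw [← hg]
    calc g * t * g⁻¹ * (g * t * g⁻¹) = g * (t * t) * g⁻¹ := by group
      _ = 1 := by rw [C.sq]; group
  obtain ⟨n, n0, n4, hn⟩ := C.base.ord (g⁻¹ * (x * v * x⁻¹) * g) (hv.trans (isConj_iff.2 ⟨g⁻¹ * x, by group⟩))
  have h1 : x * v * x⁻¹ * v = x ^ 2 := by
    have h2 : v * x⁻¹ * v⁻¹ = x := by
      calc v * x⁻¹ * v⁻¹ = (v * x * v⁻¹)⁻¹ := by group
        _ = x := by rw [hi, inv_inv]
    have h3 : v⁻¹ = v := inv_eq_of_mul_eq_one_left hvv
    rw [h3] at h2
    calc x * v * x⁻¹ * v = x * (v * x⁻¹ * v) := by group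
      _ = x ^ 2 := by rw [h2, pow_two]
  have h2 : (x * v * x⁻¹ * v) ^ n = 1 := by
    have e : x * v * x⁻¹ * v = g * (g⁻¹ * (x * v * x⁻¹) * g * t) * g⁻¹ := by
      rw [← hg]; group
    rw [e, conj_pow, hn]; group
  rw [h1, ← pow_mul] at h2
  have h3 := orderOf_dvd_of_pow_eq_one h2
  have h4' : orderOf x ∣ n := (Nat.Coprime.dvd_mul_left (Nat.Coprime.symm ((Nat.coprime_two_left).2 hx))).1 h3
  have := Nat.le_of_dvd n0 h4'
  omega

/-- an involution of `2.B` whose image inverts an element of odd order `> 6` is conjugate to `z` -/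
theorem conj_z_of_inv (C : Ctx q t M₁ a b) {k : ↥BB'} (hkk : k * k = 1) {x : X} (hx : Odd (orderOf x))
    (h6 : 6 < orderOf x) (hi : q k * x * (q k)⁻¹ = x⁻¹) : IsConj zz (k : MG) := by
  obtain ⟨u, hu, rfl, -⟩ := exists_odd_lift C.hq hx
  have h1 : k * u * k⁻¹ = u⁻¹ := by
    have h2 : q (k * u * k⁻¹ * u) = 1 := by
      rw [map_mul, map_mul, map_mul, map_inv, hi]; group
    rcases (C.hq.ker _).1 h2 with h3 | h3
    · exact eq_inv_of_mul_eq_one_left h3
    · exfalso
      have h4 : k * u * k⁻¹ = τ * u⁻¹ := by rw [← h3]; group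
      have h5 : (k * u * k⁻¹) ^ orderOf u = 1 := by rw [conj_pow, pow_orderOf_eq_one]; group
      rw [h4, (show Commute τ u⁻¹ from (C.hq.comm u⁻¹).symm).mul_pow, inv_pow, pow_orderOf_eq_one, inv_one, mul_one,
        pow_odd_of_sq C.hq.zz (by rw [hu]; exact hx)] at h5
      exact C.hq.zne h5
  have hk1 : k ≠ 1 := by
    rintro rfl
    rw [one_mul, inv_one, mul_one] at h1
    have h2 : u ^ 2 = 1 := by
      rw [pow_two]
      nth_rewrite 1 [h1]
      group
    have h3 := orderOf_dvd_of_pow_eq_one h2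
    have := Nat.le_of_dvd (by norm_num) h3
    omega
  have h2 : k * (u * k * u⁻¹) = (u ^ 2)⁻¹ := by
    have h3 : k⁻¹ = k := inv_eq_of_mul_eq_one_left hkk
    rw [h3] at h1
    calc k * (u * k * u⁻¹) = (k * u * k) * u⁻¹ := by group
      _ = (u ^ 2)⁻¹ := by rw [h1, pow_two]; group
  obtain ⟨g, hg⟩ := H935.RuM.conj_zz (u := (k : MG)) (g := (u : MG)) (congrArg Subtype.val hkk)
    (fun h => hk1 (Subtype.ext h)) (by
      have h3 : (k : MG) * ((u : MG) * k * (u : MG)⁻¹) = (((u ^ 2)⁻¹ : ↥BB') : MG) := congrArg Subtype.val h2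
      rw [h3, Subgroup.orderOf_coe, orderOf_inv, orderOf_pow' _ (by norm_num : (2 : ℕ) ≠ 0), hu,
        Nat.Coprime.gcd_eq_one ((Nat.coprime_two_right).2 hx), Nat.div_one]
      exact h6)
  exact isConj_iff.2 ⟨g, hg⟩

/-- the involutions of `B` with an involutory lift which invert an element of odd order `> 6` are of type `b` -/
theorem conj_b (C : Ctx q t M₁ a b) {k : ↥BB'} (hkk : k * k = 1) (hk1 : q k ≠ 1) {x : X} (hx : Odd (orderOf x))
    (h6 : 6 < orderOf x) (hi : q k * x * (q k)⁻¹ = x⁻¹) : IsConj (q k) (q b) := by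
  have h1 := conj_z_of_inv C hkk hx h6 hi
  have hτk : q (τ * k) = q k := by rw [map_mul, C.hq.mapz, one_mul]
  have hkk' : τ * k * (τ * k) = 1 := by
    calc τ * k * (τ * k) = τ * (k * τ) * k := by group
      _ = (τ * τ) * (k * k) := by rw [C.hq.comm k]; group
      _ = 1 := by rw [C.hq.zz, hkk, one_mul]
  have h2 : IsConj zz ((τ * k : ↥BB') : MG) := conj_z_of_inv C hkk' hx h6 (by rw [hτk]; exact hi)
  rcases C.cls' hk1 hkk with h | h | h | h
  · exact (not_conj_t C h hx (by omega) hi).elim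
  · exact (C.zt (h1.trans (C.a2.trans (BB'.subtype.map_isConj h)).symm)).elim
  · have h3 : IsConj (τ * (τ * a)) (τ * k) := MonsterN.FusionType.conj_mul_t (fun x => C.hq.comm x) h
    rw [← mul_assoc, C.hq.zz, one_mul] at h3
    exact (C.zt (h2.trans (C.a2.trans (BB'.subtype.map_isConj h3)).symm)).elim
  · exact (q.map_isConj h).symm

/-- conjugation of a perfect subgroup of `C(t1)` into `M₁` -/
theorem exists_conj_mem (C : Ctx q t M₁ a b) (F : Conf t1 s J) {u : X} (hu : u ∈ J) :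
    ∃ c : X, c * (t1 * u) * c⁻¹ ∈ M₁ := by
  obtain ⟨c, hc⟩ := isConj_iff.1 C.ht
  refine ⟨c, ?_⟩
  have hJ : ⁅J, J⁆ = J := by
    have := F.simple
    have h1 : commutator ↥J = ⊤ := by
      rcases F.simple.eq_bot_or_eq_top_of_normal (commutator ↥J) inferInstance with h | h
      · exfalso
        have h2 : ∀ x y : ↥J, x * y = y * x := by
          intro x y
          have h3 : ⁅x, y⁆ ∈ commutator ↥J := commutator_mem_commutator (mem_top x) (mem_top y)
          rw [h, mem_bot] at h3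
          exact commutatorElement_eq_one_iff_mul_comm.1 h3
        have h3 : Nat.Prime (Nat.card ↥J) := by
          letI : CommGroup ↥J := { (inferInstance : Group ↥J) with mul_comm := h2 }
          exact IsSimpleGroup.prime_card
        rw [F.card] at h3
        exact absurd h3 (by norm_num)
      · exact h
    have h2 := congrArg (Subgroup.map J.subtype) h1
    rw [_root_.commutator_def, map_commutator, ← MonoidHom.range_eq_map, Subgroup.range_subtype] at h2
    exact h2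
  have hP := C.perf (J.map (MulAut.conj c).toMonoidHom) ?_ ?_
  · have h1 : c * u * c⁻¹ ∈ M₁ := hP ⟨u, hu, rfl⟩
    have h2 : c * (t1 * u) * c⁻¹ = t * (c * u * c⁻¹) := by rw [← hc]; group
    rw [h2]
    exact mul_mem C.mem h1
  · rintro _ ⟨j, hj, rfl⟩
    rw [mem_centralizer_singleton_iff, ← hc]
    have h1 : j * t1 = t1 * j := mem_centralizer_singleton_iff.1 (F.le_t hj)
    show c * j * c⁻¹ * (c * t1 * c⁻¹) = c * t1 * c⁻¹ * (c * j * c⁻¹)
    calc c * j * c⁻¹ * (c * t1 * c⁻¹) = c * (j * t1) * c⁻¹ := by group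
      _ = c * (t1 * j) * c⁻¹ := by rw [h1]
      _ = _ := by group
  · rw [← map_commutator, hJ]

/-- `s t` times an element of order 13 has odd centralizer -/
theorem odd_cent (C : Ctx q t M₁ a b) {x y : X} (hx : orderOf x = 3) (hy : orderOf y = 13) (hxy : Commute x y) :
    orderOf (x * y) = 39 ∧ Odd (Nat.card (centralizer ({x * y} : Set X))) := by
  have ho : orderOf (x * y) = 39 := by
    rw [hxy.orderOf_mul_eq_mul_orderOf_of_coprime (by rw [hx, hy]; norm_num), hx, hy]
  refine ⟨ho, ?_⟩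
  rw [Nat.odd_iff]
  by_contra h2
  have h2' : 2 ∣ Nat.card (centralizer ({x * y} : Set X)) := by omega
  have : Fact (Nat.Prime 2) := ⟨Nat.prime_two⟩
  obtain ⟨w, hw⟩ := exists_prime_orderOf_dvd_card' 2 h2'
  have hwo : orderOf (w : X) = 2 := by rw [Subgroup.orderOf_coe, hw]
  have hwc : Commute (w : X) (x * y) := mem_centralizer_singleton_iff.1 w.2
  have hx3 : x ^ 3 = 1 := by rw [← hx, pow_orderOf_eq_one]
  have hy13 : y ^ 13 = 1 := by rw [← hy, pow_orderOf_eq_one]
  have e1 : (x * y) ^ 27 = y := by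
    rw [hxy.mul_pow, show 27 = 3 * 9 by norm_num, pow_mul, hx3, one_pow, one_mul, show 3 * 9 = 13 * 2 + 1 by norm_num,
      pow_succ, pow_mul, hy13, one_pow, one_mul]
  have e2 : (x * y) ^ 13 = x := by
    rw [hxy.mul_pow, hy13, mul_one, show 13 = 3 * 4 + 1 by norm_num, pow_succ, pow_mul, hx3, one_pow, one_mul]
  refine no_inv C hx hy hxy (w := (w : X)) (by rw [← pow_two, ← hwo, pow_orderOf_eq_one]) ?_ ?_ ?_
  · intro h
    rw [h, orderOf_one] at hwo
    omega
  · have h := hwc.pow_right 13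
    rwa [e2] at h
  · have h := hwc.pow_right 27
    rwa [e1] at h

/-- **The class `2D` is dead.** -/
theorem dead_D (C : Ctx q t M₁ a b) : Dead (⊤ : Subgroup X) (q b) := by
  obtain ⟨s, J, F⟩ := exists_conf
  obtain ⟨y, hyJ, u, huJ, hy, huu, hi⟩ := F.exists_inv C
  have hut : Commute u t1 := mem_centralizer_singleton_iff.1 (F.le_t huJ)
  have hyt : Commute y t1 := mem_centralizer_singleton_iff.1 (F.le_t hyJ)
  have htt := F.tt
  have hti : (t1 : X)⁻¹ = t1 := inv_eq_of_mul_eq_one_left htt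
  have hui : u⁻¹ = u := inv_eq_of_mul_eq_one_left huu
  have hsi : s⁻¹ = s := inv_eq_of_mul_eq_one_left F.ss
  have hxu : Commute u (s * t1) := F.comm huJ
  have hxy : Commute (s * t1) y := (F.comm hyJ).symm
  obtain ⟨ho, hodd⟩ := odd_cent C F.ord hy hxy
  have hvi : t1 * u * (s * t1 * y) * (t1 * u)⁻¹ = (s * t1 * y)⁻¹ := by
    have e1 : t1 * (s * t1) * t1⁻¹ = (s * t1)⁻¹ := by
      rw [mul_inv_rev, hti, hsi]
      calc t1 * (s * t1) * t1 = t1 * s * (t1 * t1) := by group
        _ = t1 * s := by rw [htt, mul_one]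
    have e2 : u * (s * t1 * y) * u⁻¹ = s * t1 * y⁻¹ := by
      calc u * (s * t1 * y) * u⁻¹ = (u * (s * t1)) * y * u⁻¹ := by group
        _ = (s * t1 * u) * y * u⁻¹ := by rw [hxu.eq]
        _ = s * t1 * (u * y * u⁻¹) := by group
        _ = s * t1 * y⁻¹ := by rw [hi]
    calc t1 * u * (s * t1 * y) * (t1 * u)⁻¹ = t1 * (u * (s * t1 * y) * u⁻¹) * t1⁻¹ := by group
      _ = t1 * (s * t1) * (y⁻¹ * t1⁻¹) := by rw [e2]; group
      _ = t1 * (s * t1) * (t1⁻¹ * y⁻¹) := by rw [(hyt.inv_left.inv_right).eq]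
      _ = t1 * (s * t1) * t1⁻¹ * y⁻¹ := by group
      _ = (s * t1)⁻¹ * y⁻¹ := by rw [e1]
      _ = y⁻¹ * (s * t1)⁻¹ := (hxy.inv_inv).eq
      _ = (s * t1 * y)⁻¹ := by group
  have hvv : t1 * u * (t1 * u) = 1 := by
    calc t1 * u * (t1 * u) = t1 * (u * t1) * u := by group
      _ = (t1 * t1) * (u * u) := by rw [hut.eq]; group
      _ = 1 := by rw [htt, huu, one_mul]
  have hdead : Dead (⊤ : Subgroup X) (t1 * u) := Dead.of_odd (by rw [ho]; decide) hvi hodd
  obtain ⟨c, hc⟩ := exists_conj_mem C F huJ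
  obtain ⟨k, hk⟩ := C.hq.surj (c * (t1 * u) * c⁻¹)
  have hkk1 : q k * q k = 1 := by
    rw [hk]
    calc c * (t1 * u) * c⁻¹ * (c * (t1 * u) * c⁻¹) = c * (t1 * u * (t1 * u)) * c⁻¹ := by group
      _ = 1 := by rw [hvv]; group
  have hkk := C.lift k (by rw [hk]; exact hc) hkk1
  have hinv : q k * (c * (s * t1 * y) * c⁻¹) * (q k)⁻¹ = (c * (s * t1 * y) * c⁻¹)⁻¹ := by
    rw [hk]
    calc c * (t1 * u) * c⁻¹ * (c * (s * t1 * y) * c⁻¹) * (c * (t1 * u) * c⁻¹)⁻¹
        = c * (t1 * u * (s * t1 * y) * (t1 * u)⁻¹) * c⁻¹ := by group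
      _ = _ := by rw [hvi]; group
  have hqk1 : q k ≠ 1 := by
    intro h
    rw [h, one_mul, inv_one, mul_one] at hinv
    have h2 : (c * (s * t1 * y) * c⁻¹) ^ 2 = 1 := by
      rw [pow_two]
      nth_rewrite 1 [hinv]
      group
    have h3 := orderOf_dvd_of_pow_eq_one h2
    rw [orderOf_conj, ho] at h3
    omega
  have hb := conj_b C hkk hqk1 (x := c * (s * t1 * y) * c⁻¹) (by rw [orderOf_conj, ho]; decide)
    (by rw [orderOf_conj, ho]; norm_num) hinv
  refine (hdead.of_isConj (isConj_iff.2 ⟨c, rfl⟩)).of_isConj ?_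
  rw [← hk]
  exact hb

end Cfsg.Agent.H877.SK.B
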