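import Cfsg.Agent.H877.SK.B.Odd
import Cfsg.Agent.H820.ElB
import Cfsg.Agent.LThreeFi23.CentUuComp

/-!
# S3010, the row of the Baby Monster: `Fi23` in the Baby Monster (helper877)

`Conf t s J` : transpositions `t`, `s` with `s t` of order 3, a simple subgroup `J ≅ Ω7(3)` of `C(t) ∩ C(s)`; `exists_conf`.
`Conf.exists_inv` : `J` has an involution inverting an element of order 13.
-/

set_option autoImplicit false
set_option maxRecDepth 100000

open Subgroup

namespace Cfsg.Agent.H877.SK.B

open Cfsg Cfsg.Agent.H282.SK Cfsg.Agent.R01.Lifts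

section gen

variable {G : Type*} [Group G] [Finite G]

/-- Sylow counting: an involution inverting `y`. -/
theorem exists_inverter {r : ℕ} (hr : r.Prime) (hG : ¬ r ^ 2 ∣ Nat.card G)
    {x : G} (hx : orderOf x = r) (hc : Nat.card (Subgroup.centralizer ({x} : Set G)) = r) (hr2 : r ≠ 2)
    (harith : ∀ e n : ℕ, e ∣ r - 1 → n % r = 1 → r * e * n = Nat.card G → 2 ∣ e) :
    ∃ u : G, u * u = 1 ∧ u ≠ 1 ∧ u * x * u⁻¹ = x⁻¹ := by
  have : Fact r.Prime := ⟨hr⟩
  have h1 : IsPGroup r (Subgroup.zpowers x) :=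
    IsPGroup.of_card (n := 1) (by rw [Nat.card_zpowers, hx, pow_one])
  have h2 : ¬ r ∣ (Subgroup.zpowers x).index := by
    intro h
    apply hG
    rw [← (Subgroup.zpowers x).card_mul_index, Nat.card_zpowers, hx, pow_two]
    exact Nat.mul_dvd_mul_left _ h
  obtain ⟨n, hn, hcard⟩ := H648.Loc.card_mul_normalizer (h1.toSylow h2)
  have hP : ((h1.toSylow h2 : Sylow r G) : Subgroup G) = Subgroup.zpowers x := rfl
  rw [hP] at hcard
  have hker := Subgroup.normalizerMonoidHom_ker (Subgroup.zpowers x)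
  have hcc : Subgroup.centralizer ((Subgroup.zpowers x : Subgroup G) : Set G) =
      Subgroup.centralizer ({x} : Set G) := by
    ext g
    rw [Subgroup.mem_centralizer_singleton_iff, Subgroup.mem_centralizer_iff]
    constructor
    · intro h
      exact (h x (Subgroup.mem_zpowers x)).symm
    · rintro h _ ⟨m, rfl⟩
      exact ((show Commute g x from h).zpow_right m).eq.symm
  have hkc : Nat.card (Subgroup.normalizerMonoidHom (Subgroup.zpowers x)).ker = r := by
    rw [hker, hcc, ← hc]
    refine Nat.card_congr (Subgroup.subgroupOfEquivOfLe ?_).toEquiv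
    rw [← hcc]
    exact Subgroup.centralizer_le_normalizer _
  have hcyc : IsCyclic (Subgroup.zpowers x) := inferInstance
  have hca : Nat.card (MulAut (Subgroup.zpowers x)) = r - 1 := by
    rw [IsCyclic.card_mulAut, Nat.card_zpowers, hx, Nat.totient_prime hr]
  have hfin : Finite (MulAut (Subgroup.zpowers x)) := Nat.finite_of_card_ne_zero (by
    rw [hca]; have := hr.two_le; omega)
  have hrange : Nat.card (Subgroup.normalizerMonoidHom (Subgroup.zpowers x)).range * r =
      Nat.card (Subgroup.normalizer ((Subgroup.zpowers x : Subgroup G) : Set G)) := by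
    rw [← hkc, ← Subgroup.card_mul_index (Subgroup.normalizerMonoidHom (Subgroup.zpowers x)).ker,
      Subgroup.index_ker, mul_comm]
  have he := harith (Nat.card (Subgroup.normalizerMonoidHom (Subgroup.zpowers x)).range) n
    (hca ▸ Subgroup.card_subgroup_dvd_card _) (by
      unfold Nat.ModEq at hn
      rwa [Nat.mod_eq_of_lt hr.one_lt] at hn) (by
      rw [← hcard, ← hrange]; ring)
  have h2N : 2 ∣ Nat.card (Subgroup.normalizer ((Subgroup.zpowers x : Subgroup G) : Set G)) := by
    rw [← hrange]; exact he.mul_right _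
  have h2f : Fact (Nat.Prime 2) := ⟨Nat.prime_two⟩
  obtain ⟨u, hu⟩ := exists_prime_orderOf_dvd_card' 2 h2N
  have huo : orderOf (u : G) = 2 := by rw [Subgroup.orderOf_coe, hu]
  have huu : (u : G) * u = 1 := by rw [← pow_two, ← huo, pow_orderOf_eq_one]
  have hu1 : (u : G) ≠ 1 := by
    intro h
    rw [h, orderOf_one] at huo
    omega
  refine ⟨u, huu, hu1, ?_⟩
  -- `u x u⁻¹ = x ^ k`
  have h3 : (u : G) * x * (u : G)⁻¹ ∈ zpowers x := (mem_normalizer_iff.1 u.2 x).1 (mem_zpowers x)
  set x' := (u : G) * x * (u : G)⁻¹ with hx'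
  have hui : (u : G)⁻¹ = u := inv_eq_of_mul_eq_one_left huu
  -- `x x'` is fixed by `u`
  have hcomm : Commute x x' := by
    obtain ⟨m, hm⟩ := h3
    rw [← hm]
    exact (Commute.refl x).zpow_right m
  have e1 : (u : G) * x' * (u : G)⁻¹ = x := by
    rw [hx', hui]
    calc (u : G) * (u * x * u) * u = (u * u) * x * (u * u) := by group
      _ = x := by rw [huu, one_mul, mul_one]
  have e2 : (u : G) * (x * x') * (u : G)⁻¹ = x * x' := by
    calc (u : G) * (x * x') * (u : G)⁻¹ = (u * x * (u : G)⁻¹) * (u * x' * (u : G)⁻¹) := by group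
      _ = x' * x := by rw [e1]
      _ = x * x' := hcomm.eq.symm
  by_cases h4 : x * x' = 1
  · exact (inv_eq_of_mul_eq_one_right h4).symm
  · exfalso
    have h5 : x * x' ∈ zpowers x := mul_mem (mem_zpowers x) h3
    have h6 : zpowers (x * x') = zpowers x := by
      apply Subgroup.eq_of_le_of_card_ge (zpowers_le.2 h5)
      rw [Nat.card_zpowers, Nat.card_zpowers]
      have h7 : orderOf (x * x') ∣ r := by rw [← hx]; exact orderOf_dvd_of_mem_zpowers h5
      rcases (Nat.dvd_prime hr).1 h7 with h8 | h8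
      · exact absurd (orderOf_eq_one_iff.1 h8) h4
      · rw [h8, hx]
    have h7 : (u : G) * x = x * u := by
      have h8 : x ∈ zpowers (x * x') := by rw [h6]; exact mem_zpowers x
      obtain ⟨m, hm⟩ := h8
      have h9 : Commute (u : G) (x * x') := by
        show (u : G) * (x * x') = (x * x') * u
        exact mul_inv_eq_iff_eq_mul.1 e2
      have h10 := h9.zpow_right m
      rw [show (x * x') ^ m = x from hm] at h10
      exact h10.eq
    have h8 : (u : G) ∈ centralizer ({x} : Set G) := mem_centralizer_singleton_iff.2 h7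
    have h9 := Subgroup.orderOf_dvd_natCard _ h8
    rw [hc, huo] at h9
    exact hr2 ((Nat.prime_dvd_prime_iff_eq Nat.prime_two hr).1 h9).symm

end gen

/-! ### `Fi23 → B` -/

open Cfsg.Agent.BabyM.Inst Cfsg.Agent.BabyM.WordsInst Cfsg.Agent.BM.StageW Cfsg.Agent.MonsterX.WordSub
  Cfsg.Agent.MonsterX.WordRels Cfsg.Agent.BabyM.Fi23B in
/-- the embedding of `Fi23` -/
theorem exists_fi : ∃ f : Cfsg.Spor.Fi23 →* X, Function.Injective f ∧
    ∀ g : Spor.Fi23.Gen, f (PresentedGroup.of g) = PresentedGroup.of (Cfsg.Agent.BabyM.Fi23B.m g) := by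
  have A := Cfsg.Agent.BabyM.Instance.all
  have O := Cfsg.Agent.BabyM.Instance.ok
  have h : ∀ r ∈ Spor.coxRelators Cfsg.Spor.Fi23.edges ∪ {r | r ∈ Cfsg.Spor.Fi23.extra},
      FreeGroup.lift (fun t => Cfsg.Agent.BM.StageW.x (Cfsg.Agent.BabyM.Fi23B.m t)) r = 1 := by
    rintro r (hr | hr)
    · exact cox_lift _ _ (fun s _ t _ => by rw [label]; exact cox A O _ _) r hr
    · exact lift_extra fi23_extra _ (rels A O) r hr
  let ψ : Cfsg.Spor.Fi23 →* _ := PresentedGroup.toGroup h
  have hs : IsSimpleGroup Cfsg.Spor.Fi23 := S1697.result.1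
  have hψ : ∀ g : Spor.Fi23.Gen, ψ (PresentedGroup.of g) = Cfsg.Agent.BM.StageW.x (Cfsg.Agent.BabyM.Fi23B.m g) :=
    fun g => PresentedGroup.toGroup.of h
  have hinj : Function.Injective ψ := by
    rw [← MonoidHom.ker_eq_bot_iff]
    rcases ψ.normal_ker.eq_bot_or_eq_top with h1 | h1
    · exact h1
    · exfalso
      apply t2_ne
      have h2 : (PresentedGroup.of Spor.Fi23.Gen.g : Cfsg.Spor.Fi23) ∈ ψ.ker := by rw [h1]; trivial
      rw [MonoidHom.mem_ker, hψ] at h2
      exact h2
  refine ⟨BM.KHAll.iso.symm.toMonoidHom.comp ψ, BM.KHAll.iso.symm.injective.comp hinj, fun g => ?_⟩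
  show BM.KHAll.iso.symm (ψ (PresentedGroup.of g)) = _
  rw [hψ, ← BM.KHAll.iso_gB, MulEquiv.symm_apply_apply]
  rfl

/-- the configuration -/
structure Conf (t s : X) (J : Subgroup X) : Prop where
  ht : IsConj t1 t
  hs : IsConj t1 s
  tt : t * t = 1
  ss : s * s = 1
  ord : orderOf (s * t) = 3
  le_t : J ≤ centralizer ({t} : Set X)
  le_s : J ≤ centralizer ({s} : Set X)
  simple : IsSimpleGroup ↥J
  card : Nat.card ↥J = 4585351680

open Cfsg.Agent.LThreeFi23 in
theorem exists_conf : ∃ (s : X) (J : Subgroup X), Conf t1 s J := by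
  obtain ⟨f, hf, hg⟩ := exists_fi
  have hj : f (el .j) = t1 := hg .j
  have h3 : orderOf (f uu) = 3 := by rw [orderOf_injective f hf, order_uu]
  have hzz : el .z * el .z = 1 := el_sq .z
  have hjj : el .j * el .j = 1 := el_sq .j
  have hu : f uu = f (el .z) * t1 := by rw [← hj, ← map_mul]; rfl
  have h3' : uu * uu * uu = 1 := by rw [← pow_three', ← order_uu, pow_orderOf_eq_one]
  have hconj : IsConj (el .j) (el .z) := by
    refine isConj_iff.2 ⟨el .j * el .z, ?_⟩
    have e : uu * uu * uu = el .z * el .j * (el .z * el .j) * (el .z * el .j) := rfl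
    rw [e] at h3'
    rw [mul_inv_rev, LThreeFi23.el_inv, LThreeFi23.el_inv]
    calc el .j * el .z * el .j * (el .z * el .j) = el .z * (el .z * el .j * (el .z * el .j) * (el .z * el .j)) := by
          calc el .j * el .z * el .j * (el .z * el .j) = 1 * (el .j * el .z * el .j * (el .z * el .j)) := by rw [one_mul]
            _ = _ := by rw [← hzz]; group
      _ = el .z := by rw [h3', mul_one]
  refine ⟨f (el .z), CC.map f, ?_⟩
  refine ⟨IsConj.refl _, hj ▸ f.map_isConj hconj, ?_, ?_, ?_, ?_, ?_, ?_, ?_⟩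
  · rw [← hj, ← map_mul, hjj, map_one]
  · rw [← map_mul, hzz, map_one]
  · rw [← hu]; exact h3
  · rintro _ ⟨c, hc, rfl⟩
    rw [mem_centralizer_singleton_iff, ← hj, ← map_mul, (mem_CC.1 hc).2, map_mul]
  · rintro _ ⟨c, hc, rfl⟩
    rw [mem_centralizer_singleton_iff, ← map_mul, (mem_CC.1 hc).1, map_mul]
  · have := simple_CC
    exact (CC.equivMapOfInjective f hf).symm.isSimpleGroup
  · rw [← Nat.card_congr (CC.equivMapOfInjective f hf).toEquiv, card_CC]

variable {q : ↥BB' →* X} {t : X} {M₁ : Subgroup X} {a b : ↥BB'} {s : X} {J : Subgroup X}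

theorem Conf.comm {t₀ : X} (F : Conf t₀ s J) {j : X} (hj : j ∈ J) : Commute j (s * t₀) :=
  (show Commute j s from mem_centralizer_singleton_iff.1 (F.le_s hj)).mul_right
    (show Commute j t₀ from mem_centralizer_singleton_iff.1 (F.le_t hj))

/-- **An involution of `J` inverting an element of order 13.** -/
theorem Conf.exists_inv {t₀ : X} (F : Conf t₀ s J) (C : Ctx q t M₁ a b) : ∃ y ∈ J, ∃ u ∈ J, orderOf y = 13 ∧ u * u = 1 ∧
    u * y * u⁻¹ = y⁻¹ := by
  have h13 : Fact (Nat.Prime 13) := ⟨by norm_num⟩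
  obtain ⟨y, hy⟩ := exists_prime_orderOf_dvd_card' (G := ↥J) 13 (by rw [F.card]; norm_num)
  have hyo : orderOf (y : X) = 13 := by rw [Subgroup.orderOf_coe, hy]
  have hyt : Commute t₀ (y : X) := (show Commute (y : X) t₀ from mem_centralizer_singleton_iff.1 (F.le_t y.2)).symm
  -- the centralizer in `J`
  have hc : Nat.card (centralizer ({y} : Set ↥J)) = 13 := by
    have h1 : Nat.card (centralizer ({y} : Set ↥J)) ∣ 52 := by
      refine dvd_trans ?_ (H182.Bad.BSec.inf_dvd F.ht hyo hyt)
      have h2 : (centralizer ({y} : Set ↥J)).map J.subtype ≤ centralizer ({t₀} : Set X) ⊓ centralizer ({(y : X)} : Set X) := by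
        rintro _ ⟨g, hg, rfl⟩
        refine mem_inf.2 ⟨F.le_t g.2, mem_centralizer_singleton_iff.2 ?_⟩
        exact congrArg Subtype.val (mem_centralizer_singleton_iff.1 hg)
      rw [Nat.card_congr ((centralizer ({y} : Set ↥J)).equivMapOfInjective J.subtype J.subtype_injective).toEquiv]
      exact card_dvd_of_le h2
    have h2 : ¬ 2 ∣ Nat.card (centralizer ({y} : Set ↥J)) := by
      intro h2
      have : Fact (Nat.Prime 2) := ⟨Nat.prime_two⟩
      obtain ⟨w, hw⟩ := exists_prime_orderOf_dvd_card' 2 h2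
      have hwo : orderOf (((w : ↥J)) : X) = 2 := by rw [Subgroup.orderOf_coe, Subgroup.orderOf_coe, hw]
      refine no_inv C F.ord hyo (F.comm y.2).symm (w := ((w : ↥J) : X)) ?_ ?_ (F.comm (w : ↥J).2) ?_
      · rw [← pow_two, ← hwo, pow_orderOf_eq_one]
      · intro h
        rw [h, orderOf_one] at hwo
        omega
      · exact congrArg Subtype.val (mem_centralizer_singleton_iff.1 w.2)
    have h3 : 13 ∣ Nat.card (centralizer ({y} : Set ↥J)) := by
      rw [← hy]
      exact Subgroup.orderOf_dvd_natCard _ (mem_centralizer_singleton_iff.2 rfl)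
    obtain ⟨e, he⟩ := h3
    rw [he] at h1 h2 ⊢
    have h4 : e ∣ 4 := by
      have : 13 * e ∣ 13 * 4 := h1
      exact Nat.dvd_of_mul_dvd_mul_left (by norm_num) this
    have h5 : e ≤ 4 := Nat.le_of_dvd (by norm_num) h4
    interval_cases e <;> omega
  obtain ⟨u, hu, hu1, hi⟩ := exists_inverter (G := ↥J) (by norm_num : Nat.Prime 13) (by rw [F.card]; norm_num) hy hc
    (by norm_num) (by
      intro e n he hn hcard
      rw [F.card] at hcard
      have he12 : e ≤ 12 := Nat.le_of_dvd (by norm_num) he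
      by_contra h2
      interval_cases e <;> first | omega | (norm_num at he))
  exact ⟨y, y.2, u, u.2, hyo, congrArg Subtype.val hu, congrArg Subtype.val hi⟩

end Cfsg.Agent.H877.SK.B
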