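import Cfsg.Agent.H877.SK.B.Red
import Cfsg.Agent.H182.Bad.BSec

/-!
# S3010, the row of the Baby Monster: commuting elements of orders 3 and 13 (helper877)

`no_inv` : no involution commutes with `x`, `y` if `x`, `y` commute and have orders 3 and 13.
-/

set_option autoImplicit false
set_option maxRecDepth 100000

open Subgroup

namespace Cfsg.Agent.H877.SK.B

open Cfsg Cfsg.Agent.H282.SK Cfsg.Agent.R01.Lifts

variable {q : ↥BB' →* X} {t : X} {M₁ : Subgroup X} {a b : ↥BB'}

/-- no transposition commutes with `x` and `y` -/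
theorem no_trans {x y d : X} (hx : orderOf x = 3) (hy : orderOf y = 13) (hxy : Commute x y) (hd : IsConj t1 d)
    (hdx : Commute d x) (hdy : Commute d y) : False := by
  have h1 := H182.Bad.BSec.inf_dvd hd hy hdy
  have h2 : x ∈ centralizer ({d} : Set X) ⊓ centralizer ({y} : Set X) :=
    mem_inf.2 ⟨mem_centralizer_singleton_iff.2 hdx.symm.eq, mem_centralizer_singleton_iff.2 hxy.eq⟩
  have h3 := Subgroup.orderOf_dvd_natCard _ h2
  rw [hx] at h3
  have := h3.trans h1
  omega

/-- the involutions of `2.B` commuting with an element of order 13 are not conjugate to `z` -/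
theorem not_zz {u k : ↥BB'} (hu : orderOf u = 13) (huk : u * k = k * u) (hk : k ≠ τ) (C : Ctx q t M₁ a b) :
    ¬ IsConj zz (k : MG) := by
  intro h
  obtain ⟨g, hg⟩ := isConj_iff.1 h
  have hv : ∀ {x y : ↥BB'}, x = y → ((x : ↥BB') : MG) = y := fun h => congrArg _ h
  have hkt : (k : MG) * τ = τ * k := hv (C.hq.comm k)
  have hut : (u : MG) * τ = τ * u := hv (C.hq.comm u)
  have huk' : (u : MG) * k = k * u := hv huk
  have htt : (τ : MG) * τ = 1 := hv C.hq.zz
  have key : ∀ x : MG, x * k = k * x → (g⁻¹ * x * g) * zz = zz * (g⁻¹ * x * g) := by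
    intro x hx
    have h1 : zz = g⁻¹ * k * g := by rw [← hg]; group
    rw [h1]
    calc g⁻¹ * x * g * (g⁻¹ * k * g) = g⁻¹ * (x * k) * g := by group
      _ = g⁻¹ * (k * x) * g := by rw [hx]
      _ = _ := by group
  have h1 := H935.RuM.eq_zz (x := g⁻¹ * (u : MG) * g) (t := g⁻¹ * (τ : MG) * g) ?_ (key _ huk') (key _ hkt.symm) ?_ ?_ ?_
  · apply hk
    apply Subtype.ext
    rw [← hg, ← show g⁻¹ * (τ : MG) * g = zz from h1]
    group
  · rw [← hu, ← Subgroup.orderOf_coe u]
    have := orderOf_injective (MulAut.conj g⁻¹).toMonoidHom (MulAut.conj g⁻¹).injective (u : MG)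
    simpa using this
  · calc g⁻¹ * (τ : MG) * g * (g⁻¹ * (τ : MG) * g) = g⁻¹ * ((τ : MG) * τ) * g := by group
      _ = 1 := by rw [htt]; group
  · intro h2
    apply C.hq.zne
    apply Subtype.ext
    calc (τ : MG) = g * (g⁻¹ * (τ : MG) * g) * g⁻¹ := by group
      _ = 1 := by rw [h2]; group
  · calc g⁻¹ * (u : MG) * g * (g⁻¹ * (τ : MG) * g) = g⁻¹ * ((u : MG) * τ) * g := by group
      _ = g⁻¹ * ((τ : MG) * u) * g := by rw [hut]
      _ = _ := by group

/-- The lift of an element of odd prime order. -/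
theorem exists_odd_lift {B Y : Type*} [Group B] [Group Y] {q : B →* Y} {z : B} (hq : Ext q z) {y : Y} (hy : Odd (orderOf y)) :
    ∃ u : B, orderOf u = orderOf y ∧ q u = y ∧ ∀ k : B, q k * y = y * q k → k * u = u * k := by
  obtain ⟨k, hk⟩ := hq.surj y
  have hyn : y ^ orderOf y = 1 := pow_orderOf_eq_one y
  have h1 : q (k ^ (orderOf y + 1)) = y := by rw [map_pow, hk, pow_succ, hyn, one_mul]
  have h2 : (k ^ orderOf y) * (k ^ orderOf y) = 1 := by
    have h3 : q (k ^ orderOf y) = 1 := by rw [map_pow, hk, hyn]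
    rcases (hq.ker _).1 h3 with h | h
    · rw [h, one_mul]
    · rw [h, hq.zz]
  set u := k ^ (orderOf y + 1) with hu
  have h3 : u ^ orderOf y = 1 := by
    obtain ⟨m, hm⟩ := hy
    rw [hu, ← pow_mul, mul_comm, pow_mul, show orderOf y + 1 = 2 * (m + 1) by omega, pow_mul, pow_two, h2, one_pow]
  have h4 : orderOf u = orderOf y := by
    apply Nat.dvd_antisymm (orderOf_dvd_of_pow_eq_one h3)
    apply orderOf_dvd_of_pow_eq_one
    rw [← h1, ← map_pow, pow_orderOf_eq_one, map_one]
  refine ⟨u, h4, h1, fun c hc => ?_⟩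
  have h5 : q (c * u * c⁻¹ * u⁻¹) = 1 := by
    rw [map_mul, map_mul, map_mul, map_inv, map_inv, h1, hc]
    group
  rcases (hq.ker _).1 h5 with h6 | h6
  · rw [mul_inv_eq_one, mul_inv_eq_iff_eq_mul] at h6
    exact h6
  · exfalso
    have h7 : c * u * c⁻¹ = z * u := by rw [← h6]; group
    have h8 : (c * u * c⁻¹) ^ orderOf y = 1 := by rw [conj_pow, h3]; group
    rw [h7, (show Commute z u from (hq.comm u).symm).mul_pow, h3, mul_one, pow_odd_of_sq hq.zz hy] at h8
    exact hq.zne h8

/-- **The involutions of the Baby Monster**: they lift to involutions of `2.B`, or they are products of two commuting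
transpositions centralised by the elements of odd order commuting with the product. -/
theorem inv_cases (C : Ctx q t M₁ a b) {w : X} (hw : w * w = 1) (hw1 : w ≠ 1) :
    (∃ k : ↥BB', q k = w ∧ k * k = 1) ∨
      ∃ d, IsConj t1 d ∧ ∀ x : X, Odd (orderOf x) → Commute x w → Commute x d := by
  have key : (∃ h : X, h⁻¹ * w * h ∈ M₁) → ∃ k : ↥BB', q k = w ∧ k * k = 1 := by
    rintro ⟨h, hh⟩
    obtain ⟨l, rfl⟩ := C.hq.surj h
    obtain ⟨k, rfl⟩ := C.hq.surj w
    refine ⟨k, rfl, ?_⟩
    have h1 := C.lift (l⁻¹ * k * l) (by rw [map_mul, map_mul, map_inv]; exact hh) (by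
      rw [map_mul, map_mul, map_inv]
      calc (q l)⁻¹ * q k * q l * ((q l)⁻¹ * q k * q l) = (q l)⁻¹ * (q k * q k) * q l := by group
        _ = 1 := by rw [hw]; group)
    calc k * k = l * (l⁻¹ * k * l * (l⁻¹ * k * l)) * l⁻¹ := by group
      _ = 1 := by rw [h1]; group
  rcases C.base.classes w hw hw1 with h | ⟨d, hd, hc, hud⟩
  · exact Or.inl (key h)
  · obtain ⟨g, rfl⟩ := isConj_iff.1 hd
    -- `e = g⁻¹ w g t`
    have he1 : IsConj t (g⁻¹ * w * g * t) := by
      refine hud.trans (isConj_iff.2 ⟨g⁻¹, ?_⟩)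
      group
    have hut : g⁻¹ * w * g * t = t * (g⁻¹ * w * g) := by
      calc g⁻¹ * w * g * t = g⁻¹ * (w * (g * t * g⁻¹)) * g := by group
        _ = g⁻¹ * ((g * t * g⁻¹) * w) * g := by rw [hc]
        _ = _ := by group
    have he2 : t * (g⁻¹ * w * g * t) = g⁻¹ * w * g := by
      rw [hut, ← mul_assoc, C.sq, one_mul]
    have he3 : g⁻¹ * w * g * t * t = g⁻¹ * w * g := by
      rw [mul_assoc, C.sq, mul_one]
    by_cases heM : g⁻¹ * w * g * t ∈ M₁
    · left
      refine key ⟨g, ?_⟩
      rw [← he3]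
      exact M₁.mul_mem heM C.mem
    · right
      refine ⟨g * t * g⁻¹, C.ht.trans hd, fun x hx hxw => ?_⟩
      have h1 := C.base.comm_of_odd (g⁻¹ * w * g * t) (g⁻¹ * x * g) he1 (by rw [he2, he3]) heM ?_ ?_
      · show x * (g * t * g⁻¹) = g * t * g⁻¹ * x
        calc x * (g * t * g⁻¹) = g * (g⁻¹ * x * g * t) * g⁻¹ := by group
          _ = g * (t * (g⁻¹ * x * g)) * g⁻¹ := by rw [h1]
          _ = _ := by group
      · have := orderOf_injective (MulAut.conj g⁻¹).toMonoidHom (MulAut.conj g⁻¹).injective x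
        simp only [MulEquiv.toMonoidHom_eq_coe, MonoidHom.coe_coe, MulAut.conj_apply, inv_inv] at this
        rw [this]; exact hx
      · rw [he2]
        calc g⁻¹ * x * g * (g⁻¹ * w * g) = g⁻¹ * (x * w) * g := by group
          _ = g⁻¹ * (w * x) * g := by rw [hxw.eq]
          _ = _ := by group

/-- **No involution commutes with `x` and `y`.** -/
theorem no_inv (C : Ctx q t M₁ a b) {x y w : X} (hx : orderOf x = 3) (hy : orderOf y = 13) (hxy : Commute x y)
    (hw : w * w = 1) (hw1 : w ≠ 1) (hwx : Commute w x) (hwy : Commute w y) : False := by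
  rcases inv_cases C hw hw1 with ⟨k, rfl, hkk⟩ | ⟨d, hd, h⟩
  · obtain ⟨u, hu, rfl, hc⟩ := exists_odd_lift C.hq (y := y) (by rw [hy]; decide)
    have huk : u * k = k * u := (hc k hwy.eq).symm
    have hu13 : orderOf u = 13 := hu.trans hy
    have hkτ : k ≠ τ := by
      rintro rfl
      exact hw1 C.hq.mapz
    have n1 := not_zz hu13 huk hkτ C
    rcases C.cls' hw1 hkk with h | h | h | h
    · exact no_trans hx hy hxy (C.ht.trans h) hwx hwy
    · have h2 : IsConj (τ * a) (τ * k) := MonsterN.FusionType.conj_mul_t (fun x => C.hq.comm x) h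
      refine not_zz (k := τ * k) hu13 ?_ ?_ C (C.za.trans (BB'.subtype.map_isConj h2))
      · rw [← mul_assoc, C.hq.comm u, mul_assoc, huk, mul_assoc]
      · intro h3
        have h4 : k = 1 := mul_eq_left.1 h3
        exact hw1 (by rw [h4, map_one])
    · exact n1 (C.za.trans (BB'.subtype.map_isConj h))
    · exact n1 (C.zb.trans (BB'.subtype.map_isConj h))
  · exact no_trans hx hy hxy hd (h x (by rw [hx]; decide) hwx.symm).symm (h y (by rw [hy]; decide) hwy.symm).symm

end Cfsg.Agent.H877.SK.B
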