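import Cfsg.Agent.H877.SK.B.A

/-!
# S3010, the row of the Baby Monster: assembly from the class `2B` (helper877)
-/

set_option autoImplicit false
set_option maxRecDepth 100000

universe u

open Subgroup

namespace Cfsg.Agent.H877.SK.B

open Cfsg Cfsg.Agent.H282.SK Cfsg.Agent.R01.Lifts Cfsg.Agent.H738.SK

/-- The statement on the class `2B` (task 4645). -/
def TwoB : Prop := ∀ {q : ↥BB' →* X}, Ext q τ → ∃ u x : ↥BB', u * u = 1 ∧ IsConj (τ : MG) (u : MG) ∧ orderOf x = 5 ∧
  u * x * u⁻¹ = x⁻¹ ∧ O2 (centralizer ({q u} : Set X) ⊓ centralizer ({q x} : Set X)) = ⊥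

variable {q : ↥BB' →* X} {t : X} {M₁ : Subgroup X} {a b : ↥BB'}

/-- **The class `2B` is dead.** -/
theorem dead_B (H : TwoB) (C : Ctx q t M₁ a b) : Dead (⊤ : Subgroup X) (q a) := by
  obtain ⟨u, x, huu, hu2, hx, hi, hO⟩ := H C.hq
  have hqx : orderOf (q x) = 5 := by
    have h1 : orderOf (q x) ∣ 5 := by rw [← hx]; exact orderOf_map_dvd q x
    rcases (Nat.dvd_prime Nat.prime_five).1 h1 with h2 | h2
    · exfalso
      rw [orderOf_eq_one_iff] at h2
      rcases (C.hq.ker _).1 h2 with h3 | h3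
      · rw [h3, orderOf_one] at hx
        omega
      · have h4 : x ^ 2 = 1 := by rw [pow_two, h3, C.hq.zz]
        have h5 := orderOf_dvd_of_pow_eq_one h4
        rw [hx] at h5
        omega
    · exact h2
  have hqi : q u * q x * (q u)⁻¹ = (q x)⁻¹ := by rw [← map_inv, ← map_mul, ← map_mul, hi, map_inv]
  have hqu : q u ≠ 1 := by
    intro h
    rw [h, one_mul, inv_one, mul_one] at hqi
    have h2 : (q x) ^ 2 = 1 := by
      rw [pow_two]
      nth_rewrite 1 [hqi]
      group
    have h3 := orderOf_dvd_of_pow_eq_one h2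
    rw [hqx] at h3
    omega
  have hd : Dead (⊤ : Subgroup X) (q u) := Dead.of_O2 hqu (by rw [hqx]; decide) hqi hO
  rcases C.cls' hqu huu with h | h | h | h
  · exact (not_conj_t C h (by rw [hqx]; decide) (by rw [hqx]; norm_num) hqi).elim
  · exact hd.of_isConj (q.map_isConj h).symm
  · exact (C.zt (C.za.trans ((BB'.subtype.map_isConj h).trans hu2.symm))).elim
  · exact (C.zt (C.zb.trans ((BB'.subtype.map_isConj h).trans hu2.symm))).elim

/-- **The row `B`** from the class `2B`. -/
theorem dead_of_two (H : TwoB) : DeadS.{u} (fun K _ => Cfsg.Spor.IsoB K) := by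
  obtain ⟨q, t, M₁, a, b, C⟩ := exists_ctx
  exact dead_of C (dead_A C) (dead_B H C) (dead_D C)

end Cfsg.Agent.H877.SK.B
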